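import Cfsg.Agent.Lib.J2.Syl
import Cfsg.Agent.Lib.InvChar.SylTools

/-!
# Groups with Sylow 2-subgroups of type `J₂`: the centralizer of a central involution
-/

set_option autoImplicit false

namespace Cfsg.Lib.JJ
open Subgroup Cfsg.Lib Cfsg.Lib.FT Cfsg.Lib.FT.O4 Equiv

variable {G : Type*} [Group G] [Finite G] {ι : M7 →* G}

theorem exists_fuse (hι : Function.Injective ι) (hS : IsSylowIn 2 ι.range ⊤) (h2 : ∀ N : Subgroup G, N.index ≠ 2) :
    ∃ g ∈ C1[ι zt], g * ι (xt 0) * g⁻¹ = ι (xt 4) ∨ g * ι (xt 0) * g⁻¹ = ι zt * ι (xt 4) := by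
  obtain ⟨S, hSe⟩ := hS.exists_sylow_top
  obtain ⟨g, ⟨t, ht, e⟩, h1⟩ := thompson_transfer_extremal S (M := C1[xt 4].map ι) (hSe ▸ map_le_range _ _) (by
    rw [hSe, MonoidHom.range_eq_map, relIndex_map_map_of_injective _ _ hι, relIndex_top_right]
    exact index_eq_two_iff.2 ⟨xt 0, fun b => by simpa only [mem_C1] using fU b⟩) (t := ι (xt 0))
    (by rw [← map_pow, sq, cl0_t.x2, map_one]) (by rw [pResidual_two_eq_top_iff.2 h2]; exact mem_top _)
  rw [hSe] at h1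
  obtain ⟨k, hk, h3⟩ := h1.exists_conj_le ((hS.isPGroup.to_inf_left (K := C1[ι (xt 0)])).map (MulAut.conj g).toMonoidHom)
    (by rw [← conj_centralizer_singleton]; exact map_mono inf_le_right)
  obtain ⟨⟨p, hp⟩, h4⟩ := h3 (conj_mem_conj (conj_mem_conj (x := ι (xt 1 * xt 2)) (mem_inf.2 ⟨ι.mem_range.2 ⟨_, rfl⟩, mem_C1.2 (by
    rw [← map_mul, ← map_mul]; exact congrArg ι (by decide))⟩) g) k)
  obtain ⟨a, ha⟩ : ∃ a, a = k * g := ⟨_, rfl⟩
  have e1 : ι t = a * ι (xt 0) * a⁻¹ := by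
    rw [ha, e, ← mul_inv_cancel_right (g * _ * g⁻¹) k, ← mem_C1.1 hk]; group
  have e2 : ι (p * p) = a * ι zt * a⁻¹ := by
    rw [map_mul, hp, ha, ← (by decide : xt 1 * xt 2 * (xt 1 * xt 2) = zt), map_mul ι (_ * _)]; group
  have e3 : p * p ≠ 1 := fun e => by
    rw [e, map_one, eq_comm, conj_eq_one_iff, map_eq_one_iff _ hι] at e2
    exact absurd e2 (by decide)
  have t2 : t * t = 1 := hι (by rw [map_mul, e1, conj_mul, ← map_mul, cl0_t.x2]; simp)
  obtain ⟨s, hs, rfl⟩ := fB' t (by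
    rcases fA t t2 (mem_C1.1 ht) with rfl | h | h | h
    · rw [map_one, eq_comm, conj_eq_one_iff, map_eq_one_iff _ hι] at e1
      exact absurd e1 (by decide)
    exacts [.inl h, .inr h, absurd (h p (hι (by rw [map_mul, map_mul, hp, e]; exact mem_C1.1 h4))).1 e3])
  have hU : C1[xt 4].map ι ≤ C1[ι (p * p)] := by
    rintro _ ⟨u, hu, rfl⟩
    rw [mem_C1, ← map_mul, ← map_mul]
    have : Commute u (xt 4) := mem_C1.1 hu
    rcases (fB p (hι (by rw [map_mul, e2, conj_mul, ← map_mul, cl0_t.z2]; simp))).resolve_left e3 with e | e | e <;>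
      rw [e]
    exacts [congrArg ι (cl0_t.zc u), congrArg ι this, congrArg ι ((show Commute u zt from cl0_t.zc u).mul_right this)]
  obtain ⟨c, hc, h5⟩ := (hS.mono (L := C1[ι zt]) (by
    rintro _ ⟨u, rfl⟩; rw [mem_C1, ← map_mul, ← map_mul, cl0_t.zc]) le_top).exists_conj_le
    ((hS.isPGroup.to_le (map_le_range ι C1[xt 4])).map (MulAut.conj a⁻¹).toMonoidHom)
    ((map_mono hU).trans (by rw [conj_centralizer_singleton, e2]; simp [mul_assoc]))
  obtain ⟨s', hs'⟩ := h5 (conj_mem_conj (conj_mem_conj (mem_map_of_mem ι (mem_C1.2 hs)) a⁻¹) c)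
  have e4 : ι (s' * s') = c * ι (xt 0) * c⁻¹ := by rw [map_mul, hs', conj_mul, conj_mul, ← map_mul, e1]; group
  refine ⟨c, hc, ?_⟩
  rw [← e4, ← map_mul]
  rcases fB s' (hι (by rw [map_mul, e4, conj_mul, ← map_mul, cl0_t.x2]; simp)) with e | e | e | e <;> rw [e] at e4 ⊢
  · rw [map_one, eq_comm, conj_eq_one_iff, map_eq_one_iff _ hι] at e4
    exact absurd e4 (by decide)
  · rw [eq_mul_inv_iff_mul_eq, ← mem_C1.1 hc, mul_right_inj] at e4
    exact absurd (hι e4) (by decide)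
  exacts [.inl rfl, .inr rfl]

/-- the stabilizer of `y` modulo the central involution `z` -/
def St {x : Fin 5 → G} {z : G} (h : Cl0 x z) (y : G) : Subgroup G where
  carrier := {g | g * y * g⁻¹ = y ∨ g * y * g⁻¹ = z * y}
  mul_mem' := fun {a b} ha hb => by
    have e : a * (z * y) * a⁻¹ = z * (a * y * a⁻¹) := by rw [← mul_assoc a, h.zc]; group
    change _ ∨ _
    rw [show a * b * y * (a * b)⁻¹ = a * (b * y * b⁻¹) * a⁻¹ by group]
    rcases hb with e1 | e1 <;> rcases ha with e2 | e2 <;> simp only [e1, e, e2, true_or, or_true]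
    rw [← mul_assoc, h.z2, one_mul]; exact .inl rfl
  one_mem' := .inl (by simp)
  inv_mem' := fun {a} ha => ha.imp (fun e => by rw [inv_inv, mul_assoc, inv_mul_eq_iff_eq_mul,
    ← mul_inv_eq_iff_eq_mul.1 e]) fun e => by
      rw [inv_inv, mul_assoc, inv_mul_eq_iff_eq_mul, ← mul_assoc, h.zc, mul_assoc, mul_inv_eq_iff_eq_mul.1 e,
        ← mul_assoc, ← mul_assoc, h.z2, one_mul]

theorem ind5 {P : V5 → Prop} (h0 : P 0) (h1 : ∀ v i, P v → P (v + e5 i)) (v : V5) : P v := by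
  have : ∀ v i (p : Prop) [Decidable p], P v → P (v + if p then e5 i else 0) := fun v i p _ h => by
    split_ifs; exacts [h1 v i h, by rwa [add_zero]]
  rw [(by decide +kernel : ∀ v : V5, v = 0 + (if v 0 = 1 then e5 0 else 0) + (if v 1 = 1 then e5 1 else 0) +
    (if v 2 = 1 then e5 2 else 0) + (if v 3 = 1 then e5 3 else 0) + (if v 4 = 1 then e5 4 else 0)) v]
  exact this _ _ _ (this _ _ _ (this _ _ _ (this _ _ _ (this _ _ _ h0))))

theorem cl_of (hι : Function.Injective ι) (hS : IsSylowIn 2 ι.range ⊤) (hz : ∀ g, g * ι zt = ι zt * g)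
    (hO : oddCore G = ⊥) {g : G} (hg : g * ι (xt 0) * g⁻¹ = ι (xt 4) ∨ g * ι (xt 0) * g⁻¹ = ι zt * ι (xt 4)) :
    Cl (fun i => ι (xt i)) (ι zt) := by
  have h : Cl0 (fun i => ι (xt i)) (ι zt) := ⟨fun e => cl0_t.z1 (hι (e.trans (map_one ι).symm)),
    by rw [← map_mul, cl0_t.z2, map_one], hz, fun i => by rw [← map_mul, cl0_t.x2, map_one],
    fun i j ij => by simp only [← map_mul, cl0_t.xx i j ij], by simp only [← map_mul, cl0_t.xp]⟩
  have aT : ∀ m, Ac (fun i => ι (xt i)) (ι zt) (ι m) (sg m.i m.j) := fun m i => by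
    simpa only [map_mul, map_inv] using (fG m i).imp (congrArg ι) (congrArg ι)
  have zz : ∀ a b : G, a * (ι zt * b) * a⁻¹ = ι zt * (a * b * a⁻¹) := fun a b => by rw [← mul_assoc a, hz]; group
  have into : ∀ y g, (g * y * g⁻¹ = ι (xt 4) ∨ g * y * g⁻¹ = ι zt * ι (xt 4)) → ∃ k w, (w = xt 4 ∨ w = zt * xt 4) ∧
      k * y * k⁻¹ = ι w ∧ ∀ m, ι m ∈ St h y → ∃ m', ι m' = k * ι m * k⁻¹ := fun y g hg => by
    obtain ⟨k, hk, h1⟩ := (hS.mono (L := St h (ι (xt 4))) (by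
      rintro _ ⟨m, rfl⟩; have := aT m 4; rwa [(d_sg _ _).2.2] at this) le_top).exists_conj_le
      ((hS.isPGroup.to_inf_left (K := St h y)).map (MulAut.conj g).toMonoidHom) (by
        rintro _ ⟨a, ⟨-, ha⟩, rfl⟩
        have e : g * a * g⁻¹ * (g * y * g⁻¹) * (g * a * g⁻¹)⁻¹ = g * (a * y * a⁻¹) * g⁻¹ := by group
        change g * a * g⁻¹ * _ * (g * a * g⁻¹)⁻¹ = _ ∨ g * a * g⁻¹ * _ * (g * a * g⁻¹)⁻¹ = _
        rcases hg with e1 | e1
        · rw [← e1, e, ← zz]; exact ha.imp (fun e => by rw [e]) fun e => by rw [e]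
        · rw [e1, zz] at e
          rcases ha with e2 | e2 <;> rw [e2] at e
          · exact .inl (mul_left_cancel (e.trans e1))
          · exact .inr (mul_left_cancel (e.trans (by rw [zz, e1]))))
    have e : k * g * y * (k * g)⁻¹ = k * (g * y * g⁻¹) * k⁻¹ := by group
    have : ∃ w, (w = xt 4 ∨ w = zt * xt 4) ∧ k * g * y * (k * g)⁻¹ = ι w := by
      rcases hg with e1 | e1 <;> rcases hk with e2 | e2 <;> rw [e, e1]
      exacts [⟨_, .inl rfl, e2⟩, ⟨_, .inr rfl, e2.trans (map_mul ..).symm⟩,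
        ⟨_, .inr rfl, by rw [zz, e2, map_mul]⟩, ⟨_, .inl rfl, by rw [zz, e2, ← mul_assoc, h.z2, one_mul]⟩]
    obtain ⟨w, h2, h3⟩ := this
    refine ⟨_, w, h2, h3, fun m hm => ?_⟩
    obtain ⟨m', e⟩ := h1 (conj_mem_conj (conj_mem_conj (x := ι m) (mem_inf.2 ⟨ι.mem_range.2 ⟨m, rfl⟩, hm⟩) g) k)
    exact ⟨m', e.trans (by group)⟩
  have cm : ∀ {k : G} {a b a' b'}, ι a' = k * ι a * k⁻¹ → ι b' = k * ι b * k⁻¹ → (a' * b' = b' * a' ↔ a * b = b * a) :=
    fun e1 e2 => by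
      rw [← hι.eq_iff, map_mul, map_mul, e1, e2, conj_mul, conj_mul, mul_left_inj, mul_right_inj, ← map_mul, ← map_mul,
        hι.eq_iff]
  have sq1 : ∀ {k : G} {a a'}, ι a' = k * ι a * k⁻¹ → a * a = 1 → a' * a' = 1 := fun e1 e2 =>
    hι (by rw [map_mul, e1, conj_mul, ← map_mul, e2]; simp)
  have cw : ∀ {w} (_ : w = xt 4 ∨ w = zt * xt 4) (t : M7), t * w = w * t ↔ t * xt 4 = xt 4 * t := fun hw t => by
    rcases hw with rfl | rfl
    exacts [Iff.rfl, by rw [← mul_assoc, cl0_t.zc, mul_assoc, mul_assoc, mul_right_inj]]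
  have sur : ∀ σ, ev σ → ∃ g, Ac (fun i => ι (xt i)) (ι zt) g σ := by
    obtain ⟨k, w, hw, h1, h2⟩ := into _ g hg
    obtain ⟨τ, hτ⟩ := h.exists_ac (g := k) fun i => by
      rcases eq_or_ne i 0 with rfl | e
      · exact ⟨4, hw.imp (fun e => by rw [h1, e]) fun e => by rw [h1, e, map_mul]⟩
      obtain ⟨m, hm⟩ := h2 (xt i) (aT (xt i) 0)
      obtain ⟨j, hj⟩ := (fC m (sq1 hm (cl0_t.x2 i))).resolve_left fun e' => cl0_t.z1 (by
        simpa [(cm hm h1.symm).1 ((cw hw m).2 e')] using cl0_t.xx i 0 e)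
      exact ⟨j, hj.imp (fun e => by rw [← hm, e]) fun e => by rw [← hm, e, map_mul]⟩
    exact h.sur_of (aT ⟨1, true, false⟩) (aT ⟨1, false, true⟩) hτ fun e => absurd (τ.injective
      ((h.x_inj (hτ 0) (hw.imp (fun e => by rw [h1, e]) fun e => by rw [h1, e, map_mul])).trans e.symm)) (by decide)
  have inj' : ∀ {k : G} {a b c}, ι c = k * ι a * k⁻¹ → ι c = k * ι b * k⁻¹ → a = b := fun e1 e2 =>
    hι (by simpa using e1.symm.trans e2)
  have nf : ∀ a, ¬ inQ a → a * a = 1 → ∀ g j, ¬ (g * ι a * g⁻¹ = ι (xt j) ∨ g * ι a * g⁻¹ = ι zt * ι (xt j)) := by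
    intro a ha a2 g j hg
    obtain ⟨σ, hσ, e⟩ := d_one j
    obtain ⟨n, hn⟩ := sur σ hσ
    have hn' := h.ac_inv hn j
    rw [← e, Perm.inv_def, symm_apply_apply, e] at hn'
    obtain ⟨k, w, hw, h1, h2⟩ := into (ι a) (n⁻¹ * g) (by
      rw [show n⁻¹ * g * ι a * (n⁻¹ * g)⁻¹ = n⁻¹ * (g * ι a * g⁻¹) * n⁻¹⁻¹ by group]
      rcases hg with e | e <;> rw [e]
      · exact hn'
      · rw [zz]; exact hn'.symm.imp (fun e => by rw [e, ← mul_assoc, h.z2, one_mul]) fun e => by rw [e])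
    obtain ⟨-, h3, u, h4, h5⟩ := fE a ha (.inl a2)
    obtain ⟨b, hb⟩ := h2 (xt 4) (.inl (by rw [← map_mul, h3, map_mul, mul_inv_cancel_right]))
    obtain ⟨t, ht⟩ := h2 u (.inr (by rw [← map_mul, ← map_inv, ← map_mul, h4, map_mul]))
    have hz' : ι zt = k * ι zt * k⁻¹ := by rw [hz, mul_inv_cancel_right]
    rcases fA b (sq1 hb (cl0_t.x2 4)) ((cw hw b).1 ((cm hb h1.symm).2 h3)) with rfl | rfl | e | e
    · exact absurd (inj' (b := 1) hb (by simp)) (by decide)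
    · exact absurd (inj' hb hz') (by decide)
    · have : b = w ∨ b = zt * w := by rcases e with rfl | rfl <;> rcases hw with rfl | rfl <;> decide
      rcases this with rfl | rfl
      · exact ha (inj' hb h1.symm ▸ by decide)
      · have := inj' (b := zt * a) hb (by rw [map_mul, map_mul, zz, h1])
        exact ha (by rw [← inv_mul_eq_iff_eq_mul.2 this]; decide)
    · have := (cm ht h1.symm).1 ((cw hw t).2 (e t ((cm ht hb).2 h5)).2)
      exact cl0_t.z1 (by simpa [this] using h4)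
  have ev' : ∀ n σ, Ac (fun i => ι (xt i)) (ι zt) n σ → ev σ := fun n σ hn => by
    let N : Subgroup G :=
      { carrier := {n | ∃ σ, Ac (fun i => ι (xt i)) (ι zt) n σ}
        mul_mem' := fun ⟨_, a⟩ ⟨_, b⟩ => ⟨_, h.ac_mul a b⟩
        one_mem' := ⟨_, map_one h.κ ▸ h.ac_κ 1⟩
        inv_mem' := fun ⟨_, a⟩ => ⟨_, h.ac_inv a⟩ }
    obtain ⟨k, m, hm, e⟩ := Nat.exists_eq_two_pow_mul_odd (orderOf_pos n).ne'
    have hp : ∀ m : ℕ, Ac (fun i => ι (xt i)) (ι zt) (n ^ m) (σ ^ m) := fun m => by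
      induction m with
      | zero => exact (pow_zero n).symm ▸ map_one h.κ ▸ h.ac_κ 1
      | succ m ih => rw [pow_succ, pow_succ]; exact h.ac_mul ih hn
    obtain ⟨c, ⟨ρ, hρ⟩, h1⟩ := (hS.mono (L := N) (by rintro _ ⟨m, rfl⟩; exact ⟨_, aT m⟩) le_top).exists_conj_le
      (U := zpowers (n ^ m)) (IsPGroup.of_card (n := k) (by
        rw [Nat.card_zpowers, orderOf_pow, e, Nat.gcd_mul_left_left, Nat.mul_div_cancel _ hm.pos]))
      (zpowers_le.2 ⟨_, hp m⟩)
    obtain ⟨t, ht⟩ := h1 (conj_mem_conj (mem_zpowers _) c)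
    have := (d_sg t.i t.j).1
    rw [h.ac_uniq (aT t) (ht ▸ h.ac_mul (h.ac_mul hρ (hp m)) (h.ac_inv hρ))] at this
    rcases Int.units_eq_one_or (Perm.sign σ) with e | e
    · exact e
    · simp [ev, e, mul_right_comm _ (_ ^ m), hm.neg_one_pow] at this
  have mz : ∀ c ∈ zpowers (ι zt), c = 1 ∨ c = ι zt := fun c => pg_mem_zpowers_order_two (by rw [sq, h.z2])
  have zC : ⊤ ≤ C[zpowers (ι zt)] := fun g _ c hc => by rcases mz c hc with rfl | rfl <;> simp [hz]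
  haveI : (zpowers (ι zt)).Normal := ⟨fun c hc g => by rwa [← zC (mem_top g) c hc, mul_inv_cancel_right]⟩
  obtain ⟨π, hπ⟩ : ∃ π, π = QuotientGroup.mk' (zpowers (ι zt)) := ⟨_, rfl⟩
  have πs : Function.Surjective π := hπ ▸ QuotientGroup.mk'_surjective _
  have mπ : ∀ a b, π a = π b ↔ a = b ∨ a = ι zt * b := fun a b => by
    rw [hπ, QuotientGroup.mk'_apply, QuotientGroup.mk'_apply, QuotientGroup.eq_iff_div_mem, ← div_eq_one,
      ← div_eq_iff_eq_mul]
    exact ⟨mz _, fun e => e.elim (fun e => e ▸ one_mem _) fun e => e ▸ mem_zpowers _⟩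
  have mπ' : ∀ a b, π (ι a) = π (ι b) ↔ a = b ∨ a = zt * b := fun a b => by
    rw [mπ, ← map_mul, hι.eq_iff, hι.eq_iff]
  obtain ⟨w, hw⟩ : ∃ w : V5 → _, ∀ v, w v = π (ι (wq v)) := ⟨_, fun _ => rfl⟩
  have wadd : ∀ u v, w (u + v) = w u * w v := fun u v => by
    rw [hw, hw, hw, ← map_mul, ← map_mul, mπ']; exact wq_add u v
  have wker : ∀ v, w v = 1 ↔ v = 0 ∨ v = 1 := fun v => by
    rw [hw, ← wq_ker, ← mπ', map_one, map_one]
  let W : Multiplicative V5 →* _ := MonoidHom.mk' (fun v => w v.toAdd) fun u v => wadd _ _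
  have mA : ∀ a, π a ∈ W.range ↔ ∃ m, inQ m ∧ ι m = a := fun a => ⟨fun ⟨v, e⟩ => by
    rcases (mπ _ _).1 (e.symm.trans (hw _)) with e | e
    exacts [⟨_, (wq_mem _).2 ⟨_, .inl rfl⟩, e.symm⟩, ⟨_, (wq_mem _).2 ⟨_, .inr rfl⟩, (map_mul ..).trans e.symm⟩], by
    rintro ⟨m, hm, rfl⟩
    obtain ⟨v, e⟩ := (wq_mem m).1 hm
    exact ⟨.ofAdd v, (hw v).trans ((mπ' _ _).2 e).symm⟩⟩
  have acts : ∀ n σ, Ac (fun i => ι (xt i)) (ι zt) n σ → Act w (π n) σ := fun n σ hn => ind5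
    (by rw [show pv σ 0 = 0 from rfl, (wker 0).2 (.inl rfl)]; simp) fun v i e => by
      rw [pv_add, wadd, wadd, ← conj_mul, e, d_pve, hw (e5 i), hw (e5 _), wq_e, wq_e, ← map_inv, ← map_mul π n,
        ← map_mul π, (mπ _ _).2 (hn i)]
  have memN : ∀ n σ, Act w n σ → n ∈ N[W.range] := fun n σ hn => pg_mem_normalizer_of_conj_mem (by
    rintro _ ⟨v, rfl⟩; exact ⟨.ofAdd (pv σ v.toAdd), (hn _).symm⟩)
  have exN : ∀ n, π n ∈ N[W.range] → ∃ σ, ev σ ∧ Ac (fun i => ι (xt i)) (ι zt) n σ := fun n hn => by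
    obtain ⟨σ, hσ⟩ := h.exists_ac (g := n) fun i => by
      obtain ⟨m, hm, e⟩ := (mA (n * ι (xt i) * n⁻¹)).1 (by
        simpa using (mem_normalizer_iff.1 hn _).1 ((mA _).2 ⟨xt i, ⟨rfl, rfl⟩, rfl⟩))
      rcases fD m hm (sq1 e (cl0_t.x2 i)) with rfl | rfl | ⟨j, hj⟩
      · exact absurd (inj' (b := 1) e (by simp)) ((by decide : ∀ i, xt i ≠ 1) i)
      · exact absurd (inj' (b := zt) e (by rw [hz, mul_inv_cancel_right])) ((by decide : ∀ i, xt i ≠ zt) i)
      · exact ⟨j, hj.imp (fun e' => by rw [← e, e']) fun e' => by rw [← e, e', map_mul]⟩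
    exact ⟨σ, ev' n σ hσ, hσ⟩
  have ea : IsElementaryAbelian 2 W.range := ⟨inferInstance, by
    rintro _ ⟨v, rfl⟩
    rw [← map_pow, sq, show v * v = 1 from add_self v.toAdd, map_one]⟩
  have sS : IsSylowIn 2 (ι.range.map π) ⊤ := map_top_of_surjective π πs ▸ hS.map π
  have AS : W.range ≤ ι.range.map π := by rintro _ ⟨v, rfl⟩; exact ⟨_, ⟨_, rfl⟩, (hw _).symm⟩
  have cenA : ∀ n, π n ∈ C[W.range] → Ac (fun i => ι (xt i)) (ι zt) n 1 := fun n hn i => (mπ _ _).1 (by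
    rw [map_mul, map_mul, ← hn _ ((mA _).2 ⟨xt i, ⟨rfl, rfl⟩, rfl⟩)]; simp)
  have M : Mod W.range (ι.range.map π) w := by
    refine ⟨wadd, fun _ => Iff.rfl, wker, fun n hn => ?_, fun σ hσ => ?_, ?_, ea, ?_, sS, AS, ?_, fun σ hσ => ?_, ?_⟩
    · obtain ⟨n, rfl⟩ := πs n
      exact (exN n hn).imp fun σ e => ⟨e.1, acts n σ e.2⟩
    · exact (sur σ hσ).elim fun n e => ⟨_, acts n σ e⟩
    · have := (sS.mono (L := N[W.range]) (by rintro _ ⟨_, ⟨m, rfl⟩, rfl⟩; exact memN _ _ (acts _ _ (aT m)))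
        le_top).inf_of_le_normalizer (centralizer_le_normalizer _) (le_normalizer_centralizer le_rfl)
      rwa [show ι.range.map π ⊓ C[W.range] = W.range from le_antisymm (by
        rintro _ ⟨⟨_, ⟨m, rfl⟩, rfl⟩, hm⟩
        exact (mA _).2 ⟨m, d_sg_inj _ _ false false ((h.ac_uniq (aT m) (cenA _ hm)).trans (by decide)), rfl⟩)
        (le_inf AS (elemAb_le_centralizer ea))] at this
    · have h2 : Nat.card W.ker = 2 := by
        have : (W.ker : Set (Multiplicative V5)) = {Multiplicative.ofAdd 0, Multiplicative.ofAdd 1} := by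
          ext v
          exact wker v.toAdd
        rw [← SetLike.coe_sort_coe, this, Nat.card_coe_set_eq, Set.ncard_pair (by decide)]
      have h3 := W.ker.card_mul_index
      rw [index_ker, h2, show Nat.card (Multiplicative V5) = 32 by simp] at h3
      omega
    · rintro _ ⟨_, ⟨m, rfl⟩, rfl⟩
      exact ⟨_, d_sg _ _, acts _ _ (aT m)⟩
    · obtain ⟨i, j, rfl⟩ := d_v4 σ hσ
      exact ⟨_, ⟨_, ⟨⟨1, i, j⟩, rfl⟩, rfl⟩, acts _ _ (aT _)⟩
    · have := pg_card_map_mul_card_ker π ι.range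
      rw [hπ, QuotientGroup.ker_mk', inf_eq_right.2 (zpowers_le.2 (ι.mem_range.2 ⟨zt, rfl⟩)), Nat.card_zpowers,
        h9_orderOf_eq_two_iff.2 ⟨h.z1, h.z2⟩, ← Nat.card_congr (MonoidHom.ofInjective hι).toEquiv, card_M7,
        ← hπ] at this
      omega
  have sc : SCl W.range := SCl.of_sylow sS (by
    rintro _ ⟨_, ⟨a, rfl⟩, rfl⟩ g hg
    obtain ⟨g, rfl⟩ := πs g
    obtain ⟨m, hm, e⟩ := (mA (g * ι a * g⁻¹)).1 (by simpa using hg)
    refine (mA _).2 ⟨a, by_contra fun ha => ?_, rfl⟩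
    have a2 := (fE a ha (by
      have := ea.2 _ hg
      rw [conj_pow, conj_eq_one_iff, sq, ← map_mul, ← map_mul, ← map_one π, ← map_one ι, mπ'] at this
      simpa using this)).1
    rcases fD m hm (sq1 e a2) with rfl | rfl | ⟨j, hj⟩
    · exact ha (inj' (b := 1) e (by simp) ▸ by decide)
    · exact ha (inj' (b := zt) e (by rw [hz, mul_inv_cancel_right]) ▸ by decide)
    · exact nf a ha a2 g j (hj.imp (fun e' => by rw [← e, e']) fun e' => by rw [← e, e', map_mul]))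
  have hO' := IC.pPrimeCore_quotient_central hO (IsPGroup.of_card (n := 1) (by
    rw [Nat.card_zpowers, h9_orderOf_eq_two_iff.2 ⟨h.z1, h.z2⟩]; rfl)) zC
  have nA := sc.normal_sup ea M.card (fun e he h1 => isPConstrained_of_isSolvable (by
      rcases M.conj_in he h1 with e | e <;> obtain ⟨g, rfl⟩ := isConj_iff.1 e <;>
        rw [← conj_centralizer_singleton, isSolvable_conj_iff]
      exacts [M.solv_e sc 4, M.solv_b sc])) (M.w_mem (e5 4)) (M.w_mem bv)
    (fun e => absurd (M.w_eq_one.1 e) (by decide)) (fun e => absurd (M.w_eq_one.1 e) (by decide)) fun e => by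
      obtain ⟨g, e⟩ := isConj_iff.1 e
      obtain ⟨g, rfl⟩ := πs g
      rw [hw, hw, wq_e, ← map_inv, ← map_mul, ← map_mul, mπ, ← map_mul] at e
      rcases e with e | e <;> exact absurd (sq1 e.symm (cl0_t.x2 4)) (by decide)
  rw [show oddCore _ = ⊥ from hO', sup_bot_eq] at nA
  refine ⟨h, fun g => exN g (le_normalizer_of_normal (mem_top _)), sur, fun g hg => ?_,
    ι ⟨1, true, false⟩, by rw [← map_mul, ← map_one ι]; exact congrArg ι (by decide), aT _⟩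
  obtain ⟨m, -, rfl⟩ := (mA g).1 (IC.le_of_central_sylow hO' le_normalizer_of_normal M.syl le_rfl
    (M.act_iff.1 (acts g 1 fun i => .inl (hg i))))
  exact (fZ m fun k => hι (by rw [map_mul, map_mul, ← mul_inv_eq_iff_eq_mul]; exact hg k)).imp
    (fun e => by rw [e, map_one]) (congrArg ι)

end Cfsg.Lib.JJ
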